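import Mathlib
import Cfsg.Agent.Lib.Helper69.APQ.Defs
import Cfsg.Agent.Lib.Helper75.APQ.T13K1

/-!
# APQ (S4150), package [T13K2]

A solvable subgroup of `Alt` fixing two points of a 13-point set and containing an `11`-cycle
has order `11` or `55`.
-/

set_option autoImplicit false

namespace Cfsg.Agent.Lib.Helper97.APQ

open Equiv Cfsg.Agent.Lib.Helper69.APQ Cfsg.Agent.Lib.Helper75.APQ
open scoped commutatorElement

universe u

/-- A solvable permutation group of degree `11` containing an `11`-cycle has order `11 f`,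
`f ∣ 10`, and its involutions are odd permutations. -/
theorem solv11 {Ω : Type*} [Fintype Ω] [DecidableEq Ω] (hΩ : Fintype.card Ω = 11)
    (K : Subgroup (Perm Ω)) (hsolv : Group.IsSolvable K) (σ : Perm Ω) (hσK : σ ∈ K)
    (hσ : σ.cycleType = {11}) :
    (∃ f, f ∣ 10 ∧ Nat.card K = 11 * f) ∧
      ∀ t ∈ K, t ≠ 1 → t ^ 2 = 1 → Equiv.Perm.sign t = -1 := by
  classical
  have hcyc : σ.IsCycle := by rw [← Equiv.Perm.card_cycleType_eq_one, hσ]; simp
  have hsupp : σ.support = Finset.univ := by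
    apply Finset.eq_univ_of_card
    have := Equiv.Perm.sum_cycleType σ
    rw [hσ] at this
    rw [hΩ]; simpa using this.symm
  have hmov : ∀ ω, σ ω ≠ ω := fun ω => Equiv.Perm.mem_support.mp (hsupp ▸ Finset.mem_univ ω)
  have htr : MulAction.IsPretransitive K Ω := by
    refine ⟨fun x y => ?_⟩
    obtain ⟨i, hi⟩ := hcyc.exists_pow_eq (hmov x) (hmov y)
    exact ⟨⟨σ ^ i, K.pow_mem hσK i⟩, hi⟩
  have hprim : MulAction.IsPreprimitive K Ω :=
    MulAction.IsPreprimitive.of_prime_card (by rw [Nat.card_eq_fintype_card, hΩ]; norm_num)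
  have hne : Nonempty Ω := by
    rw [← Fintype.card_pos_iff, hΩ]; norm_num
  obtain ⟨ω₀⟩ := hne
  -- derived series
  have hex : ∃ n, derivedSeries K n = ⊥ := hsolv.solvable
  have hk1 := Nat.find_spec hex
  have hk0 : Nat.find hex ≠ 0 := by
    intro h0
    rw [h0, derivedSeries_zero] at hk1
    have h1 : (⟨σ, hσK⟩ : K) ∈ (⊤ : Subgroup K) := Subgroup.mem_top _
    rw [hk1, Subgroup.mem_bot] at h1
    have h2 : σ = 1 := congrArg Subtype.val h1
    exact hmov ω₀ (by rw [h2]; rfl)
  obtain ⟨j, hj⟩ := Nat.exists_eq_succ_of_ne_zero hk0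
  set N : Subgroup K := derivedSeries K j with hN
  have hNne : N ≠ ⊥ := fun h => Nat.find_min hex (by omega : j < Nat.find hex) h
  have hj' : Nat.find hex = j + 1 := hj
  have hcomm : ⁅N, N⁆ = ⊥ := by rw [hN, ← derivedSeries_succ, ← hj']; exact hk1
  have hNn : N.Normal := derivedSeries_normal K j
  have hNc : ∀ m n : K, m ∈ N → n ∈ N → m * n = n * m := by
    intro m n hm hn
    have h4 : ⁅m, n⁆ ∈ ⁅N, N⁆ := Subgroup.commutator_mem_commutator hm hn
    rw [hcomm, Subgroup.mem_bot, commutatorElement_eq_one_iff_mul_comm] at h4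
    exact h4
  -- N is transitive
  have hNtr : MulAction.IsPretransitive N Ω := by
    apply MulAction.IsQuasiPreprimitive.isPretransitive_of_normal (G := K)
    intro hfix
    apply hNne
    rw [Subgroup.eq_bot_iff_forall]
    intro n hn
    apply Subtype.ext
    ext ω
    have h1 : ω ∈ MulAction.fixedPoints N Ω := by rw [hfix]; trivial
    exact h1 ⟨n, hn⟩
  have hNex : ∀ ω ω' : Ω, ∃ n : K, n ∈ N ∧ (n : Perm Ω) ω = ω' := by
    intro ω ω'
    obtain ⟨n, hn⟩ := MulAction.exists_smul_eq N ω ω'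
    exact ⟨n, n.2, hn⟩
  -- elements commuting with N are semiregular
  have hC : ∀ c : K, (∀ n : K, n ∈ N → c * n = n * c) → ∀ ω : Ω, (c : Perm Ω) ω = ω →
      c = 1 := by
    intro c hc ω hω
    apply Subtype.ext
    ext ω'
    obtain ⟨n, hnN, hn⟩ := hNex ω ω'
    have h1 : ((c * n : K) : Perm Ω) ω = ((n * c : K) : Perm Ω) ω := by rw [hc n hnN]
    simp only [Subgroup.coe_mul, Equiv.Perm.mul_apply] at h1
    rw [hn, hω, hn] at h1
    simpa using h1
  have hR : ∀ n : K, n ∈ N → ∀ ω : Ω, (n : Perm Ω) ω = ω → n = 1 := fun n hn ω hω =>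
    hC n (fun m hm => hNc n m hn hm) ω hω
  -- |N| = 11
  have hNcard : Nat.card N = 11 := by
    have h1 := MulAction.index_stabilizer_of_transitive (G := N) (x := ω₀)
    have h2 : MulAction.stabilizer N ω₀ = ⊥ := by
      rw [Subgroup.eq_bot_iff_forall]
      intro n hn
      have h3 : (n : K) = 1 := hR n n.2 ω₀ (MulAction.mem_stabilizer_iff.mp hn)
      exact Subtype.ext h3
    rw [h2, Subgroup.index_bot, Nat.card_eq_fintype_card (α := Ω), hΩ] at h1
    exact h1
  have : Fact (Nat.Prime 11) := ⟨by norm_num⟩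
  -- conjugation action on N
  set φ : K →* MulAut N := MulAut.conjNormal with hφ
  have hker : φ.ker = N := by
    ext c
    rw [MonoidHom.mem_ker]
    constructor
    · intro h
      have hc : ∀ n : K, n ∈ N → c * n = n * c := by
        intro n hn
        have h1 : ((φ c) ⟨n, hn⟩ : K) = n := by rw [h]; rfl
        rw [hφ, MulAut.conjNormal_apply] at h1
        have h1' : c * n * c⁻¹ = n := h1
        calc c * n = (c * n * c⁻¹) * c := by group
          _ = n * c := by rw [h1']
      obtain ⟨n, hnN, hn⟩ := hNex ω₀ ((c : Perm Ω) ω₀)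
      have h2 : n⁻¹ * c = 1 := by
        apply hC (n⁻¹ * c) _ ω₀
        · simp only [Subgroup.coe_mul, Subgroup.coe_inv, Equiv.Perm.mul_apply]
          rw [← hn]; simp
        · intro m hm
          calc n⁻¹ * c * m = n⁻¹ * (c * m) := mul_assoc _ _ _
            _ = n⁻¹ * (m * c) := by rw [hc m hm]
            _ = (n⁻¹ * m) * c := by rw [mul_assoc]
            _ = (m * n⁻¹) * c := by rw [hNc n⁻¹ m (N.inv_mem hnN) hm]
            _ = m * (n⁻¹ * c) := mul_assoc _ _ _
      have h3 : c = n := by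
        rw [inv_mul_eq_one] at h2; exact h2.symm
      rw [h3]; exact hnN
    · intro hc
      ext n
      rw [hφ, MulAut.conjNormal_apply]
      have := hNc c n hc n.2
      rw [this]; simp
  have hKcard : Nat.card K = 11 * Nat.card φ.range := by
    rw [← Subgroup.card_mul_index φ.ker, Subgroup.index_ker, hker, hNcard]
  have hf : Nat.card φ.range ∣ 10 := by
    have h1 := Subgroup.card_subgroup_dvd_card φ.range
    have hcyc' : IsCyclic N := isCyclic_of_prime_card hNcard
    rw [IsCyclic.card_mulAut, hNcard, Nat.totient_prime (by norm_num)] at h1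
    exact h1
  refine ⟨⟨_, hf, hKcard⟩, ?_⟩
  -- involutions
  intro t htK ht1 ht2
  have hord : orderOf t = 2 := orderOf_eq_prime ht2 ht1
  obtain ⟨n, hn⟩ := Equiv.Perm.cycleType_prime_order (σ := t) (by rw [hord]; exact Nat.prime_two)
  rw [hord] at hn
  have hsum : t.support.card = 2 * (n + 1) := by
    rw [← Equiv.Perm.sum_cycleType, hn]; simp; ring
  -- a fixed point
  obtain ⟨ω₁, hω₁⟩ : ∃ ω₁, t ω₁ = ω₁ := by
    by_contra hcon
    push Not at hcon
    have h1 : t.support = Finset.univ := by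
      ext ω; simp [hcon ω]
    rw [h1, Finset.card_univ, hΩ] at hsum
    omega
  -- unique
  have huniq : ∀ ω, t ω = ω → ω = ω₁ := by
    intro ω hω
    by_contra hne
    obtain ⟨m, hmN, hm⟩ := hNex ω₁ ω
    set tK : K := ⟨t, htK⟩ with htKdef
    have hm1 : m ≠ 1 := by
      rintro rfl
      exact hne (by simpa using hm.symm)
    have hconj : tK * m * tK⁻¹ ∈ N := hNn.conj_mem m hmN tK
    have h1 : m⁻¹ * (tK * m * tK⁻¹) = 1 := by
      apply hR _ (N.mul_mem (N.inv_mem hmN) hconj) ω₁
      simp only [Subgroup.coe_mul, Subgroup.coe_inv, Equiv.Perm.mul_apply, htKdef]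
      have h2 : t⁻¹ ω₁ = ω₁ := by rw [Equiv.Perm.inv_eq_iff_eq]; exact hω₁.symm
      rw [h2, hm, hω, Equiv.Perm.inv_eq_iff_eq]; exact hm.symm
    have h3 : tK * m = m * tK := by
      rw [inv_mul_eq_one] at h1
      calc tK * m = (tK * m * tK⁻¹) * tK := by group
        _ = m * tK := by rw [← h1]
    -- t commutes with all of N
    have h4 : ∀ x : K, x ∈ N → tK * x = x * tK := by
      intro x hx
      have h5 : Subgroup.zpowers (⟨m, hmN⟩ : N) = ⊤ :=
        zpowers_eq_top_of_prime_card hNcard (fun h => hm1 (congrArg Subtype.val h))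
      have h6 : (⟨x, hx⟩ : N) ∈ Subgroup.zpowers (⟨m, hmN⟩ : N) := by rw [h5]; trivial
      obtain ⟨i, hi⟩ := Subgroup.mem_zpowers_iff.mp h6
      have h7 : x = m ^ i := by
        have := congrArg Subtype.val hi
        simpa using this.symm
      rw [h7]
      exact (Commute.zpow_right (show Commute tK m from h3) i).eq
    have h8 : tK = 1 := hC tK h4 ω₁ hω₁
    exact ht1 (congrArg Subtype.val h8)
  have hsupp' : t.support = Finset.univ.erase ω₁ := by
    ext ω
    simp only [Equiv.Perm.mem_support, Finset.mem_erase, Finset.mem_univ, and_true]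
    constructor
    · intro h hω; exact h (by rw [hω]; exact hω₁)
    · intro h hω; exact h (huniq ω hω)
  rw [hsupp', Finset.card_erase_of_mem (Finset.mem_univ _), Finset.card_univ, hΩ] at hsum
  have hn4 : n = 4 := by omega
  rw [Equiv.Perm.sign_of_cycleType, hn, hn4]
  decide

theorem pkgT13K2 : PkgT13K2.{u} := by
  intro β _ _ G h13 hAlt g hg hgc a b hab hga hgb hsolv
  classical
  set ρ := t13Rho G a b with hρ
  have hinj := t13Rho_injective G a b
  have hcard := t13_card a b hab h13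
  set K' : Subgroup (Perm {c : β // c ≠ a ∧ c ≠ b}) := ρ.range with hK'
  have hsolv' : Group.IsSolvable K' :=
    Group.isSolvable_of_surjective (f := ρ.rangeRestrict) ρ.rangeRestrict_surjective
  set g₀ : Stab2 G a b := ⟨⟨g, hg⟩, t13_stab2_mk G a b g hg hga hgb⟩ with hg₀
  have hσ : (ρ g₀).cycleType = {11} := by
    have h1 : Equiv.Perm.ofSubtype (ρ g₀) = g :=
      Equiv.Perm.ofSubtype_subtypePerm (t13_inv G a b g₀)
        (fun x hx => ⟨fun h => hx (h ▸ hga), fun h => hx (h ▸ hgb)⟩)
    rw [← Equiv.Perm.cycleType_ofSubtype (g := ρ g₀), h1, hgc]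
  obtain ⟨⟨f, hf, hKf⟩, hinv⟩ := solv11 hcard K' hsolv' (ρ g₀) ⟨g₀, rfl⟩ hσ
  have hKK' : Nat.card (Stab2 G a b) = Nat.card K' :=
    Nat.card_congr (MonoidHom.ofInjective hinj).toEquiv
  rw [hKK']
  have hodd : ¬ 2 ∣ Nat.card K' := by
    intro h2
    have : Fact (Nat.Prime 2) := ⟨Nat.prime_two⟩
    obtain ⟨t', ht'⟩ := exists_prime_orderOf_dvd_card' (G := K') 2 h2
    obtain ⟨t, ht⟩ := t'.2
    have ht1 : (t' : Perm {c : β // c ≠ a ∧ c ≠ b}) ≠ 1 := by
      intro h
      have : t' = 1 := Subtype.ext h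
      rw [this, orderOf_one] at ht'
      omega
    have ht2 : (t' : Perm {c : β // c ≠ a ∧ c ≠ b}) ^ 2 = 1 := by
      have := pow_orderOf_eq_one t'
      rw [ht'] at this
      exact congrArg Subtype.val this
    have hsign := hinv t'.1 t'.2 ht1 ht2
    obtain ⟨hta, htb⟩ := t13_stab2_fix G a b t
    have h4 : Equiv.Perm.sign (ρ t) = Equiv.Perm.sign ((t : G) : Perm β) :=
      Equiv.Perm.sign_subtypePerm _ (t13_inv G a b t)
        (fun x hx => ⟨fun h => hx (h ▸ hta), fun h => hx (h ▸ htb)⟩)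
    have h5 : Equiv.Perm.sign ((t : G) : Perm β) = 1 := hAlt (t : G).2
    rw [← ht, h4, h5] at hsign
    exact absurd hsign (by decide)
  rw [hKf] at hodd ⊢
  have hf' : f = 1 ∨ f = 2 ∨ f = 5 ∨ f = 10 := by
    have := Nat.le_of_dvd (by norm_num) hf
    interval_cases f <;> simp_all
  rcases hf' with rfl | rfl | rfl | rfl
  · left; rfl
  · exact absurd (by norm_num) hodd
  · right; rfl
  · exact absurd (by norm_num) hodd

end Cfsg.Agent.Lib.Helper97.APQ
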